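import Mathlib.GroupTheory.GroupAction.Quotient
import Mathlib.Algebra.BigOperators.Finprod
import Mathlib.Algebra.Order.BigOperators.Group.Finset
import Mathlib.SetTheory.Cardinal.Finite
import Mathlib.Data.Rat.Defs
import Mathlib.Tactic.FieldSimp
import Mathlib.Algebra.BigOperators.Field

/-! The mass formula of a finite group action. -/

namespace Groth.Agent.FFMass16

theorem finsum_inv_card_stabilizer {G X κ : Type*} [Group G] [Finite G] [Finite X] [MulAction G X]
    (f : X → κ) (hf : Function.Surjective f) (h : ∀ x y, f x = f y ↔ x ∈ MulAction.orbit G y)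
    (w : κ → ℕ) (hw : ∀ x, w (f x) = Nat.card (MulAction.stabilizer G x)) :
    Finite κ ∧ ∑ᶠ c : κ, ((w c : ℚ))⁻¹ = (Nat.card X : ℚ) / (Nat.card G : ℚ) := by
  classical
  haveI := Fintype.ofFinite G
  haveI := Fintype.ofFinite X
  haveI : Finite κ := Finite.of_surjective f hf
  haveI := Fintype.ofFinite κ
  refine ⟨inferInstance, ?_⟩
  have hG : (Nat.card G : ℚ) ≠ 0 := by exact_mod_cast Nat.card_pos.ne'
  have hc : ∀ c : κ, ((w c : ℚ))⁻¹ =
      ((Finset.univ.filter fun x => f x = c).card : ℚ) / (Nat.card G : ℚ) := by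
    intro c
    obtain ⟨x, rfl⟩ := hf c
    have e : (Finset.univ.filter fun y => f y = f x).card = Nat.card (MulAction.orbit G x) := by
      rw [Nat.card_eq_fintype_card, Fintype.card_of_subtype]
      intro y
      simp [h]
    have h1 : (Nat.card (MulAction.orbit G x) : ℚ) * (Nat.card (MulAction.stabilizer G x) : ℚ) =
        (Nat.card G : ℚ) := by
      rw [← Nat.cast_mul, Nat.card_eq_fintype_card, Nat.card_eq_fintype_card, Nat.card_eq_fintype_card,
        MulAction.card_orbit_mul_card_stabilizer_eq_card_group]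
    have hs : (Nat.card (MulAction.stabilizer G x) : ℚ) ≠ 0 := by exact_mod_cast Nat.card_pos.ne'
    rw [e, hw, eq_div_iff hG, ← h1]
    field_simp
  rw [finsum_eq_sum_of_fintype, Finset.sum_congr rfl (fun c _ => hc c), ← Finset.sum_div, ← Nat.cast_sum,
    ← Finset.card_eq_sum_card_fiberwise (fun x _ => Finset.mem_univ (f x)), Finset.card_univ,
    ← Nat.card_eq_fintype_card]

end Groth.Agent.FFMass16
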