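import Groth.Agent.Lib.FFMass16.Torsor
import Groth.Agent.Lib.FFMass16.Count
import Groth.Agent.Lib.Quot16.Basic
import Groth.Agent.Lib.Zeta25.PointCount

/-! Rational objects of a quotient stack over a finite field. -/

universe u

open CategoryTheory CategoryTheory.Limits MonoidalCategory CartesianMonoidalCategory MonObj GrpObj
  AlgebraicGeometry

set_option linter.style.haveILetI false
set_option linter.unusedSectionVars false
set_option backward.isDefEq.respectTransparency false
set_option backward.isDefEq.respectTransparency.types false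

namespace Groth.Agent.FFMass16

open AlgSt

variable {S : Scheme.{u}}

/-- The base, as a terminal object. -/
abbrev base1 (S : Scheme.{u}) : Over S := Over.mk (𝟙 S)

lemma base1_ext {W : Over S} (f g : W ⟶ base1 S) : f = g := Over.mkIdTerminal.hom_ext f g

section

variable (K : Precoverage Scheme.{u}) [K.HasIsos] {G X : Over S} [GrpObj G] (aX : AlgGrp.Action G X)

/-- The action on rational points. -/
@[instance_reducible]
noncomputable def mulAction : MulAction (base1 S ⟶ G) (base1 S ⟶ X) where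
  smul g x := lift g x ≫ aX.act
  one_smul x := AlgGrpBasic19.act_one aX x
  mul_smul g g' x := AlgGrpBasic19.act_mul aX g g' x

/-- The fibre over the base. -/
abbrev Fib : Type _ := (QuotSt K G aX).p.Fiber (base1 S)

/-- The class of a rational point. -/
noncomputable def obj (x : base1 S ⟶ X) : Fib K aX := ⟨Quot16.triv K aX x, rfl⟩

/-- The isomorphism in the fibre from one in the total category. -/
noncomputable def fibIso {A B : Fib K aX} (φ : A.1 ⟶ B.1) : A ≅ B := by
  haveI hl : (QuotSt K G aX).p.IsHomLift (𝟙 (base1 S)) φ :=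
    IsHomLift.of_fac' (QuotSt K G aX).p _ φ A.2 B.2 (by
      rw [← cancel_mono (eqToHom B.2)]
      exact base1_ext _ _)
  haveI : IsIso φ.base := ⟨eqToHom (B.2.trans A.2.symm),
    by rw [← cancel_mono (eqToHom A.2)]; exact base1_ext _ _,
    by rw [← cancel_mono (eqToHom B.2)]; exact base1_ext _ _⟩
  haveI : IsIso φ := Quot16.isIso_of_isIso_base φ
  haveI hl' : (QuotSt K G aX).p.IsHomLift (𝟙 (base1 S)) (inv φ) :=
    IsHomLift.of_fac' (QuotSt K G aX).p _ (inv φ) B.2 A.2 (by
      rw [← cancel_mono (eqToHom A.2)]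
      exact base1_ext _ _)
  exact
    { hom := ⟨φ, hl⟩
      inv := ⟨inv φ, hl'⟩
      hom_inv_id := Subtype.ext (IsIso.hom_inv_id φ)
      inv_hom_id := Subtype.ext (IsIso.inv_hom_id φ) }

lemma triv_π_ext {x y : base1 S ⟶ X} (σ : base1 S ⟶ (Quot16.triv K aX y).P) :
    σ = lift (σ ≫ fst G (base1 S)) (𝟙 (base1 S)) := by
  apply CartesianMonoidalCategory.hom_ext
  · exact (lift_fst _ _).symm
  · exact (base1_ext _ _).trans (lift_snd _ _).symm

lemma pt_φ (y : base1 S ⟶ X) (g : base1 S ⟶ G) :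
    (lift g (𝟙 (base1 S)) : base1 S ⟶ (Quot16.triv K aX y).P) ≫ (Quot16.triv K aX y).φ =
      lift g y ≫ aX.act := by
  rw [Quot16.triv_φ, ← Category.assoc]
  exact congrArg (· ≫ aX.act) ((lift_whiskerLeft _ _ _).trans (by rw [Category.id_comp]))

/-- Morphisms between the classes of rational points. -/
noncomputable def homEquiv (x y : base1 S ⟶ X) :
    (Quot16.triv K aX x ⟶ Quot16.triv K aX y) ≃ {g : base1 S ⟶ G // lift g y ≫ aX.act = x} where
  toFun h := ⟨Quot16.sec h ≫ fst G (base1 S), by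
    rw [← pt_φ K aX y, ← triv_π_ext K aX (x := x) (Quot16.sec h)]
    exact Quot16.sec_φ h⟩
  invFun g := Quot16.homOfPt (Quot16.triv K aX y) (lift g.1 (𝟙 (base1 S))) ((pt_φ K aX y g.1).trans g.2)
  left_inv h := Quot16.hom_ext_sec ((Quot16.sec_homOfPt _ _ _).trans
    (triv_π_ext K aX (x := x) (Quot16.sec h)).symm)
  right_inv g := Subtype.ext ((congrArg (· ≫ fst G (base1 S))
    (Quot16.sec_homOfPt (Quot16.triv K aX y) (lift g.1 (𝟙 (base1 S)))
      ((pt_φ K aX y g.1).trans g.2))).trans (lift_fst _ _))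

/-- Endomorphisms in the total category are automorphisms in the fibre. -/
noncomputable def autEquiv (A : Fib K aX) : Aut A ≃ (A.1 ⟶ A.1) where
  toFun e := e.hom.1
  invFun φ := fibIso K aX φ
  left_inv e := Iso.ext (Subtype.ext rfl)
  right_inv φ := rfl

lemma nonempty_iso_iff (x y : base1 S ⟶ X) :
    Nonempty (obj K aX x ≅ obj K aX y) ↔ ∃ g : base1 S ⟶ G, lift g y ≫ aX.act = x := by
  constructor
  · rintro ⟨e⟩
    exact ⟨_, (homEquiv K aX x y e.hom.1).2⟩
  · rintro ⟨g, hg⟩
    exact ⟨fibIso K aX ((homEquiv K aX x y).symm ⟨g, hg⟩)⟩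

lemma exists_obj_iso (h : ∀ A : QuotObj K G aX, A.base = base1 S → Nonempty (base1 S ⟶ A.P))
    (A : Fib K aX) : ∃ x : base1 S ⟶ X, Nonempty (obj K aX x ≅ A) := by
  obtain ⟨σ⟩ := h A.1 A.2
  exact ⟨σ ≫ A.1.φ, ⟨fibIso K aX (Quot16.homOfPt A.1 σ rfl)⟩⟩

end

section FiniteField

variable {F : Type u} [Field F] [Finite F]

theorem finite_pts (Y : Over (Spec (CommRingCat.of F))) [LocallyOfFiniteType Y.hom] [QuasiCompact Y.hom] :
    Finite (base1 (Spec (CommRingCat.of F)) ⟶ Y) := by
  haveI : Finite ((base1 (Spec (CommRingCat.of F))).left ⟶ Y.left) := Zeta25.finite_points Y.hom F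
  exact Finite.of_injective (fun f => f.left) (fun _ _ h => Over.OverMorphism.ext h)

variable {G X : Over (Spec (CommRingCat.of F))} [GrpObj G] (aX : AlgGrp.Action G X)

theorem exists_pt [IsAffineHom G.hom] [Smooth G.hom] [ConnectedSpace ↥G.left]
    (A : QuotObj Scheme.fppfPrecoverage G aX) (hA : A.base = base1 (Spec (CommRingCat.of F))) :
    Nonempty (base1 (Spec (CommRingCat.of F)) ⟶ A.P) := by
  haveI : IsAffine G.left := isAffine_of_isAffineHom G.hom
  haveI : Nonempty ↥A.P.left := by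
    obtain ⟨R, hR, hs⟩ := A.loc
    haveI : Nonempty ↥A.base.left := by rw [hA]; exact inferInstanceAs (Nonempty (PrimeSpectrum F))
    obtain ⟨b⟩ := ‹Nonempty ↥A.base.left›
    obtain ⟨_, _, ⟨hf⟩, c, -⟩ := hR.1 b
    obtain ⟨s, -⟩ := hs _ hf
    exact ⟨s.base c⟩
  haveI hX : IsIso (lift A.act.act (snd G A.P)) := by
    have e := (AlgSt.isPullback_fst_snd A.P A.P)
    have h : IsPullback A.act.act (snd G A.P) (toUnit A.P) (toUnit A.P) := by
      refine A.cart.of_iso (Iso.refl _) (Iso.refl _) (Iso.refl _)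
        (eqToIso hA) (by simp) (by simp) ?_ ?_ <;> exact base1_ext _ _
    have : lift A.act.act (snd G A.P) = (h.isoIsPullback _ _ e).hom := by
      apply CartesianMonoidalCategory.hom_ext
      · rw [lift_fst, IsPullback.isoIsPullback_hom_fst]
      · rw [lift_snd, IsPullback.isoIsPullback_hom_snd]
    rw [this]
    infer_instance
  exact exists_point F G A.P A.act hX

theorem main [Smooth X.hom] [QuasiCompact X.hom] [Smooth G.hom] [IsAffineHom G.hom] [ConnectedSpace ↥G.left] :
    Finite (Quotient (isIsomorphicSetoid (Fib Scheme.fppfPrecoverage aX))) ∧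
      (∀ ξ : Fib Scheme.fppfPrecoverage aX, Finite (Aut ξ)) ∧
      ∑ᶠ c : Quotient (isIsomorphicSetoid (Fib Scheme.fppfPrecoverage aX)), ((Nat.card (Aut c.out) : ℚ))⁻¹ =
        (Nat.card (base1 (Spec (CommRingCat.of F)) ⟶ X) : ℚ) /
          (Nat.card (base1 (Spec (CommRingCat.of F)) ⟶ G) : ℚ) := by
  letI := mulAction aX
  haveI := finite_pts X
  haveI := finite_pts G
  let q : (base1 (Spec (CommRingCat.of F)) ⟶ X) → Quotient (isIsomorphicSetoid (Fib Scheme.fppfPrecoverage aX)) :=
    fun x => Quotient.mk (isIsomorphicSetoid _) (obj _ aX x)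
  have hq : Function.Surjective q := fun c => by
    obtain ⟨x, e⟩ := exists_obj_iso _ aX (exists_pt aX) c.out
    exact ⟨x, (Quotient.sound e).trans c.out_eq⟩
  have hq' : ∀ x y, q x = q y ↔ x ∈ MulAction.orbit (base1 (Spec (CommRingCat.of F)) ⟶ G) y := fun x y =>
    Quotient.eq.trans (nonempty_iso_iff _ aX x y)
  have hfin : ∀ ξ : Fib Scheme.fppfPrecoverage aX, Finite (Aut ξ) := fun ξ => by
    obtain ⟨x, ⟨e⟩⟩ := exists_obj_iso _ aX (exists_pt aX) ξ
    exact Finite.of_equiv _ (((autEquiv _ aX (obj _ aX x)).trans (homEquiv _ aX x x)).symm.trans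
      e.conjAut.toEquiv)
  have hw : ∀ x, Nat.card (Aut (q x).out) =
      Nat.card (MulAction.stabilizer (base1 (Spec (CommRingCat.of F)) ⟶ G) x) := fun x => by
    have e : Nonempty ((q x).out ≅ obj Scheme.fppfPrecoverage aX x) := @Quotient.mk_out _ (isIsomorphicSetoid (Fib Scheme.fppfPrecoverage aX)) (obj _ aX x)
    obtain ⟨e⟩ := e
    exact Nat.card_congr (e.conjAut.toEquiv.trans
      ((autEquiv _ aX (obj _ aX x)).trans (homEquiv _ aX x x)))
  obtain ⟨h1, h2⟩ := finsum_inv_card_stabilizer q hq hq' (fun c => Nat.card (Aut c.out)) hw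
  exact ⟨h1, hfin, h2⟩

end FiniteField

end Groth.Agent.FFMass16
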