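import Groth.Prelude.Def_AlgGrp
import Groth.Agent.Lib.Lang21.Points
import Groth.Agent.Lib.AlgGrpBasic19.Basic
import Mathlib.FieldTheory.IsAlgClosed.AlgebraicClosure
-- import your own Groth.Agent.* helpers here

set_option autoImplicit false
universe u
open CategoryTheory MonoidalCategory CartesianMonoidalCategory MonObj GrpObj AlgebraicGeometry

namespace Groth.Agent.FFMass16

/-- Let k be a finite field, G an affine, smooth, connected group scheme over k, and X a G-torsor over
k: a nonempty k-scheme locally of finite type with an action of G such that (g, x) ↦ (g · x, x) is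
an isomorphism G × X ≅ X × X. Then X has a k-point (the torsor is trivial). -/
theorem exists_point (k : Type u) [Field k] [Finite k]
    (G : Over (Spec (CommRingCat.of k))) [GrpObj G] [IsAffine G.left] [Smooth G.hom] [ConnectedSpace G.left]
    (X : Over (Spec (CommRingCat.of k))) [Nonempty ↥X.left] (a : AlgGrp.Action G X)
    (hX : IsIso (CartesianMonoidalCategory.lift a.act (CartesianMonoidalCategory.snd G X))) :
    Nonempty (𝟙_ (Over (Spec (CommRingCat.of k))) ⟶ X) := by
  letI := Groth.Agent.InvRing21.gamAlg G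
  haveI := Fintype.ofFinite k
  -- the Frobenius of G
  have hw : G.left.isoSpec.inv ≫ G.hom = Spec.map (CommRingCat.ofHom (algebraMap k Γ(G.left, ⊤))) :=
    Over.w (Groth.Agent.InvRing21.uPt G)
  let toU : G ⟶ VecGrp.pt k Γ(G.left, ⊤) := Over.homMk G.left.isoSpec.hom (by
    show G.left.isoSpec.hom ≫ Spec.map (CommRingCat.ofHom (algebraMap k Γ(G.left, ⊤))) = G.hom
    rw [← hw, Iso.hom_inv_id_assoc])
  let F : G ⟶ G := toU ≫ VecGrp.ptMap (FiniteField.frobeniusAlgHom k Γ(G.left, ⊤)) ≫ Groth.Agent.InvRing21.uPt G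
  have huT : Groth.Agent.InvRing21.uPt G ≫ toU = 𝟙 _ := Over.OverMorphism.ext G.left.isoSpec.inv_hom_id
  have hF : ∀ s : Γ(G.left, ⊤), F.left.appTop s = s ^ Nat.card k := fun s => by
    have e1 : Groth.Agent.InvRing21.val (Groth.Agent.InvRing21.uPt G) (F.left.appTop s) = s ^ Nat.card k := by
      rw [Groth.Agent.InvRing21.appTop_val, show Groth.Agent.InvRing21.uPt G ≫ F =
        VecGrp.ptMap (FiniteField.frobeniusAlgHom k Γ(G.left, ⊤)) ≫ Groth.Agent.InvRing21.uPt G by
          simp only [F, ← Category.assoc, huT, Category.id_comp],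
        Groth.Agent.InvRing21.val_ptMap, Groth.Agent.InvRing21.val_uPt, AlgHom.comp_id, Nat.card_eq_fintype_card]
      rfl
    rw [Groth.Agent.InvRing21.val_uPt] at e1
    exact e1
  -- a geometric point of X
  obtain ⟨x⟩ := ‹Nonempty ↥X.left›
  let φ := Spec.preimage (X.left.fromSpecResidueField x ≫ X.hom)
  letI : Algebra k (X.left.residueField x) := φ.hom.toAlgebra
  let K := AlgebraicClosure (X.left.residueField x)
  let x₀ : VecGrp.pt k K ⟶ X :=
    Over.homMk (Spec.map (CommRingCat.ofHom (algebraMap (X.left.residueField x) K)) ≫ X.left.fromSpecResidueField x) (by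
      show (_ ≫ _) ≫ X.hom = Spec.map (CommRingCat.ofHom (algebraMap k K))
      rw [Category.assoc, ← Spec.map_preimage (X.left.fromSpecResidueField x ≫ X.hom), ← Spec.map_comp,
        IsScalarTower.algebraMap_eq k (X.left.residueField x) K, CommRingCat.ofHom_comp]
      rfl)
  let σ : VecGrp.pt k K ⟶ VecGrp.pt k K := VecGrp.ptMap (FiniteField.frobeniusAlgHom k K)
  have hσ : ∀ g : VecGrp.pt k K ⟶ G, σ ≫ g = g ≫ F := fun g =>
    Groth.Agent.Lang21.pt_ext (AlgHom.ext fun f => by
      rw [Groth.Agent.InvRing21.val_ptMap, ← Groth.Agent.InvRing21.appTop_val, hF, map_pow, AlgHom.comp_apply,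
        Nat.card_eq_fintype_card]
      rfl)
  haveI := hX
  let e := asIso (CartesianMonoidalCategory.lift a.act (CartesianMonoidalCategory.snd G X))
  let w := lift (σ ≫ x₀) x₀ ≫ e.inv
  have hw1 : w ≫ a.act = σ ≫ x₀ := by
    have : (w ≫ e.hom) ≫ fst _ _ = σ ≫ x₀ := by simp [w]
    simpa [e] using this
  have hw2 : w ≫ snd G X = x₀ := by
    have : (w ≫ e.hom) ≫ snd _ _ = x₀ := by simp [w]
    simpa [e] using this
  obtain ⟨v, hv⟩ := Groth.Agent.Lang21.exists_lang F hF K (w ≫ fst G X)⁻¹
  let y := lift v⁻¹ x₀ ≫ a.act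
  have hinv : v⁻¹ ≫ F = (v ≫ F)⁻¹ := by
    rw [← hσ, ← hσ]
    exact GrpObj.comp_inv _ _
  have hy : σ ≫ y = y := by
    show σ ≫ lift v⁻¹ x₀ ≫ a.act = _
    rw [comp_lift_assoc, hσ, ← hw1, show w ≫ a.act = lift (w ≫ fst G X) (w ≫ snd G X) ≫ a.act by
      rw [← comp_lift, lift_fst_snd, Category.comp_id], hw2, ← Groth.Agent.AlgGrpBasic19.act_mul, hinv,
      ← inv_inv (w ≫ fst G X), ← hv]
    refine congrArg (fun g => lift g x₀ ≫ a.act) ?_
    group
  -- descent
  let pt : Spec (CommRingCat.of K) := IsLocalRing.closedPoint K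
  let yl : Spec (CommRingCat.of K) ⟶ X.left := y.left
  let p := yl.base pt
  let ψ : X.left.residueField p ⟶ CommRingCat.of K := (Scheme.SpecToEquivOfField K X.left yl).2
  have hψ : Spec.map ψ ≫ X.left.fromSpecResidueField p = yl :=
    (Scheme.SpecToEquivOfField K X.left).symm_apply_apply yl
  have hfix : ψ ≫ CommRingCat.ofHom (FiniteField.frobeniusAlgHom k K).toRingHom = ψ := by
    apply Spec.map_injective
    rw [← cancel_mono (X.left.fromSpecResidueField p), Spec.map_comp, Category.assoc, hψ]
    exact congrArg (fun t => t.left) hy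
  let φp := Spec.preimage (X.left.fromSpecResidueField p ≫ X.hom)
  haveI : Finite (X.left.residueField p) ∧ Function.Bijective φp.hom := by
    classical
    letI : Algebra k (X.left.residueField p) := φp.hom.toAlgebra
    have hroot : ∀ c : X.left.residueField p, c ^ Fintype.card k = c := fun c => ψ.hom.injective (by
      rw [map_pow]
      exact congrArg (fun t => t.hom c) hfix)
    let P : Polynomial (X.left.residueField p) := Polynomial.X ^ Fintype.card k - Polynomial.X
    have hP : P ≠ 0 := FiniteField.X_pow_card_sub_X_ne_zero _ Fintype.one_lt_card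
    have hmem : ∀ c, c ∈ P.roots.toFinset := fun c => by
      simp [P, Multiset.mem_toFinset, Polynomial.mem_roots hP, hroot c]
    letI : Fintype (X.left.residueField p) := ⟨P.roots.toFinset, hmem⟩
    refine ⟨inferInstance, (Fintype.bijective_iff_injective_and_card _).2 ⟨φp.hom.injective,
      le_antisymm (Fintype.card_le_of_injective _ φp.hom.injective) ?_⟩⟩
    refine (P.roots.toFinset_card_le).trans ((Polynomial.card_roots' P).trans ?_)
    rw [FiniteField.X_pow_card_sub_X_natDegree_eq _ Fintype.one_lt_card]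
  haveI : IsIso φp := (ConcreteCategory.isIso_iff_bijective φp).2 this.2
  exact ⟨Over.homMk (Spec.map (inv φp) ≫ X.left.fromSpecResidueField p) (by
    rw [Category.assoc, ← Spec.map_preimage (X.left.fromSpecResidueField p ≫ X.hom), ← Spec.map_comp,
      IsIso.hom_inv_id, Spec.map_id]
    rfl)⟩

end Groth.Agent.FFMass16
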